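/-
Two generators of the twisted groups ³D₄.
-/
import Mathlib
import Cfsg.Agent.Lib.Chev.Twist.D4Main
import Cfsg.Agent.Lib.Known.ChevSinger.Bruhat
import Cfsg.Agent.Lib.Classical.FiniteFieldSq

set_option autoImplicit false
set_option maxRecDepth 20000

namespace CfsgLib.Chev.TwD4.TwoGen

open Cfsg.Lie CfsgLib.Known.ChevSinger

universe v w

/-- Generation of a subgroup by two of its elements. -/
theorem two_gen_of_le {Γ : Type w} [Group Γ] {G : Subgroup Γ} {a b : Γ} (ha : a ∈ G) (hb : b ∈ G)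
    (h : G ≤ Subgroup.closure {a, b}) : ∃ a b : ↥G, Subgroup.closure ({a, b} : Set ↥G) = ⊤ := by
  refine ⟨⟨a, ha⟩, ⟨b, hb⟩, eq_top_iff.2 fun x _ => ?_⟩
  rw [← Subgroup.mem_map_iff_mem (f := G.subtype) G.subtype_injective, MonoidHom.map_closure]
  simpa [Set.image_pair] using h x.2

theorem root_rows : (chevD4.cartan 0 18 = 2 ∧ chevD4.cartan 1 18 = -1 ∧ chevD4.cartan 2 18 = 0 ∧
    chevD4.cartan 3 18 = 0) ∧ (chevD4.cartan 0 22 = 1 ∧ chevD4.cartan 1 22 = -1 ∧ chevD4.cartan 2 22 = 1 ∧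
    chevD4.cartan 3 22 = 1) ∧ coordB chevD4 [22] = true ∧ parD4.rho 22 = 22 ∧ parD4.eps 22 = 1 ∧
    parD4.commB chevD4 22 d4p1 = true ∧ parD4.commB chevD4 22 d4p3 = true ∧
    parD4.commB chevD4 22 d4p4 = true ∧
    (∀ i : Fin 4, chevD4.cartan i.val (chevD4.neg d4p1) = -chevD4.cartan i.val d4p1 ∧
      chevD4.cartan i.val (chevD4.neg d4p2) = -chevD4.cartan i.val d4p2 ∧
      chevD4.cartan i.val (chevD4.neg d4p3) = -chevD4.cartan i.val d4p3 ∧
      chevD4.cartan i.val (chevD4.neg d4p4) = -chevD4.cartan i.val d4p4) := by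
  decide +kernel

/-- The word of the longest element. -/
def w0L : List (Fin chevD4.rank) :=
  (List.replicate 3 [1, 0, 2, 3]).flatten.map fun i => ⟨i % chevD4.rank, Nat.mod_lt _ (by decide +kernel)⟩

/-- The word of the second orbit. -/
def wTL : List (Fin chevD4.rank) :=
  [0, 2, 3].map fun i => ⟨i % chevD4.rank, Nat.mod_lt _ (by decide +kernel)⟩

theorem w_tables : (∀ p ∈ [(d4p1, d4m1), (d4p2, d4m2), (d4p3, d4m3), (d4p4, d4m4)],
      (w0L.map Fin.val).foldr (fun i x => chevD4.reflectRoot i x) p.2 = p.1 ∧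
      (w0L.map Fin.val).foldr (fun i x => chevD4.reflectRoot i x) p.1 = p.2 ∧ chevD4.neg p.1 = p.2) ∧
    (wTL.map Fin.val).foldr (fun i x => chevD4.reflectRoot i x) 22 = d4p2 := by
  decide +kernel

variable {K : Type v} [Field K] [Fintype K] {q : ℕ} (C : Ctx K q)

/-- The element of the triple. -/
noncomputable def tri (_C : Ctx K q) (t : K) : GL chevD4.Idx K :=
  wU chevD4 [(d4p1, t), (d4p3, t ^ q), (d4p4, t ^ (q ^ 2))]

/-- The element of the negative triple. -/
noncomputable def triN (_C : Ctx K q) (t : K) : GL chevD4.Idx K :=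
  wU chevD4 [(d4m1, t), (d4m3, t ^ q), (d4m4, t ^ (q ^ 2))]

theorem tri_mem (t : K) : tri C t ∈ twistedD4 K q :=
  C.mem_gen (Or.inr ⟨t, (d4p1, d4p3, d4p4), by simp, rfl⟩)

theorem triN_mem (t : K) : triN C t ∈ twistedD4 K q :=
  C.mem_gen (Or.inr ⟨t, (d4m1, d4m3, d4m4), by simp, rfl⟩)

include C in
theorem add_pow_q (x y : K) : (x + y) ^ q = x ^ q + y ^ q := by
  rw [← C.hf, ← C.hf, ← C.hf, map_add]

include C in
theorem add_pow_q2 (x y : K) : (x + y) ^ (q ^ 2) = x ^ (q ^ 2) + y ^ (q ^ 2) := by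
  rw [sq, pow_mul, pow_mul, pow_mul, add_pow_q C, add_pow_q C]

theorem tri_add (t s : K) : tri C t * tri C s = tri C (t + s) := by
  simp only [tri, wU, List.map_cons, List.map_nil, List.prod_cons, List.prod_nil, mul_one]
  rw [C.triple_add, add_pow_q C, add_pow_q2 C]

theorem tri_zero : tri C 0 = 1 := by
  have h : tri C 0 * tri C 0 = tri C 0 := by rw [tri_add, add_zero]
  exact mul_eq_left.1 h

theorem tri_inv (t : K) : (tri C t)⁻¹ = tri C (-t) :=
  inv_eq_of_mul_eq_one_right (by rw [tri_add, add_neg_cancel, tri_zero])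

include C in
theorem x22_mem {s : K} (hs : s ^ q = s) : xU chevD4 22 s ∈ twistedD4 K q := by
  obtain ⟨-, -, c22, r22, e22, -⟩ := root_rows
  exact C.sys.posU_le ⟨(C.sig.fix_single_iff c22 r22 e22 rfl _).2 (by rw [C.hf, hs]),
    xU_mem_rootClosure (by decide) (by decide) _⟩

theorem comm22 (t s : K) : Commute (tri C t) (xU chevD4 22 s) := by
  obtain ⟨-, -, -, -, -, k1, k3, k4, -⟩ := root_rows
  simp only [tri, wU, List.map_cons, List.map_nil, List.prod_cons, List.prod_nil, mul_one]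
  exact ((C.sig.commute_xU (by decide) (by decide) k1 s t).symm.mul_left
    ((C.sig.commute_xU (by decide) (by decide) k3 s _).symm.mul_left
      (C.sig.commute_xU (by decide) (by decide) k4 s _).symm))

/-- A fixed product over the triple is determined by its first entry. -/
theorem eq_tri {a b c : K}
    (h : xU chevD4 d4p1 a * (xU chevD4 d4p3 b * xU chevD4 d4p4 c) ∈ twistedD4 K q) :
    xU chevD4 d4p1 a * (xU chevD4 d4p3 b * xU chevD4 d4p4 c) = tri C a := by
  obtain ⟨hn, hr, e1, e2, e3, -, -, -, -, -, s1, s2, s3, s4, -⟩ := tables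
  obtain ⟨c1, c2, -⟩ := commutes
  obtain ⟨-, -, -, hc⟩ := lists
  rw [← mul_assoc] at h
  have e := (C.triple_fixed (a := d4p1) (b := d4p3) (c := d4p4) (by decide) (by decide)
    (by decide) s1 s3 s4 e1 e2 e3 c1 c2 a b c).unique (C.sys.le_fix h)
  have := DataD4.facts.coords_unique C.sig.hC hc (ts := [C.f c, C.f a, C.f b]) (ts' := [a, b, c])
    rfl rfl (by simpa [wU, mul_assoc] using e)
  simp only [List.cons.injEq, and_true] at this
  rw [← this.2.2, ← this.2.1, C.hf, C.hf, ← pow_mul, ← sq]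
  simp [tri, wU]

/-- The torus element. -/
noncomputable def hh (A : Kˣ) : GL chevD4.Idx K := hT chevD4 (C.vec A 1)

theorem hh_mem (A : Kˣ) : hh C A ∈ twistedD4 K q := C.vec_mem A (one_pow _)

theorem hh_tri (A : Kˣ) (t : K) : hh C A * tri C t * (hh C A)⁻¹ = tri C ((A : K) * A * t) := by
  have hF := DataD4.facts
  have hmem : hh C A * tri C t * (hh C A)⁻¹ ∈ twistedD4 K q :=
    mul_mem (mul_mem (hh_mem C A) (tri_mem C t)) (inv_mem (hh_mem C A))
  obtain ⟨⟨a0, a1, a2, a3⟩, -⟩ := root_rows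
  have e : (∏ i ∈ Finset.range chevD4.rank, C.vec A 1 i ^ chevD4.cartan i d4p1) = A * A := by
    rw [show chevD4.rank = 4 from tables.2.1, show d4p1 = 18 from rfl]
    simp [Finset.prod_range_succ, a0, a1, a2, a3, Ctx.vec, zpow_two, sq]
  have e' : hh C A * tri C t * (hh C A)⁻¹ = hh C A * xU chevD4 d4p1 t * (hh C A)⁻¹ *
      (hh C A * xU chevD4 d4p3 (t ^ q) * (hh C A)⁻¹ *
        (hh C A * xU chevD4 d4p4 (t ^ (q ^ 2)) * (hh C A)⁻¹)) := by
    simp only [tri, wU, List.map_cons, List.map_nil, List.prod_cons, List.prod_nil, mul_one]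
    group
  rw [e', hh, hF.hT_conj_xU _ (by decide), hF.hT_conj_xU _ (by decide), hF.hT_conj_xU _ (by decide),
    e] at hmem ⊢
  rw [eq_tri C hmem, Units.val_mul]

theorem hh_x22 (A : Kˣ) (s : K) : hh C A * xU chevD4 22 s * (hh C A)⁻¹ =
    xU chevD4 22 (((A * C.fu A * C.fu (C.fu A) : Kˣ) : K) * s) := by
  obtain ⟨-, ⟨a0, a1, a2, a3⟩, -⟩ := root_rows
  have e : (∏ i ∈ Finset.range chevD4.rank, C.vec A 1 i ^ chevD4.cartan i 22) =
      A * C.fu A * C.fu (C.fu A) := by
    rw [show chevD4.rank = 4 from tables.2.1]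
    simp [Finset.prod_range_succ, Finset.prod_range_zero, a0, a1, a2, a3, Ctx.vec]
  rw [hh, DataD4.facts.hT_conj_xU _ (by decide), e]

/-- The representative of the reflection of the second orbit. -/
noncomputable def nT (K : Type v) [Field K] : GL chevD4.Idx K := nW chevD4 K wTL

/-- The representative of the longest element. -/
noncomputable def n0 (K : Type v) [Field K] : GL chevD4.Idx K := nW chevD4 K w0L

theorem nT_eq : nT K = nU chevD4 d4p1 1 * (nU chevD4 d4p3 1 * nU chevD4 d4p4 1) := by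
  obtain ⟨s0, -, s2, s3, -⟩ := torus_tables
  show (List.map (nS chevD4 K) wTL).prod = _
  simp [wTL, nS, ← s0, ← s2, ← s3]
  rfl

theorem nT_tri : nT K = tri C 1 * triN C (-1) * tri C 1 := by
  obtain ⟨k31, k41, k43, g31, g41, g43, l31, l41, l43, -, -, -, n1, -, n3, n4⟩ := cross_commutes
  rw [nT_eq]
  simp only [tri, triN, wU, List.map_cons, List.map_nil, List.prod_cons, List.prod_nil, mul_one, one_pow,
    nU, n1, n3, n4, inv_one]
  rw [show (-1 : K) ^ q = -1 by rw [← C.hf, map_neg, map_one],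
    show (-1 : K) ^ (q ^ 2) = -1 by
      rw [sq, pow_mul, show (-1 : K) ^ q = -1 by rw [← C.hf, map_neg, map_one], ← C.hf, map_neg, map_one]]
  rw [sandwich₃ (C.sig.commute_xU (by decide) (by decide) k31 _ _)
    (C.sig.commute_xU (by decide) (by decide) k41 _ _)
    (C.sig.commute_xU (by decide) (by decide) k43 _ _)
    (C.sig.commute_xU (by decide) (by decide) g31 _ _)
    (C.sig.commute_xU (by decide) (by decide) g41 _ _)
    (C.sig.commute_xU (by decide) (by decide) g43 _ _)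
    (C.sig.commute_xU (by decide) (by decide) l31 _ _)
    (C.sig.commute_xU (by decide) (by decide) l41 _ _)
    (C.sig.commute_xU (by decide) (by decide) l43 _ _)]

include C in
theorem n0_mem : n0 K ∈ twistedD4 K q := by
  obtain ⟨s0, s1, s2, s3, -⟩ := torus_tables
  have h1 := C.nU_p2 (t := 1) (one_pow q)
  have hT' : nT K ∈ twistedD4 K q := by
    rw [nT_tri C]; exact mul_mem (mul_mem (tri_mem C _) (triN_mem C _)) (tri_mem C _)
  have e : n0 K = (nU chevD4 d4p2 1 * nT K) * ((nU chevD4 d4p2 1 * nT K) * (nU chevD4 d4p2 1 * nT K)) := by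
    rw [nT_eq]
    show (List.map (nS chevD4 K) w0L).prod = _
    simp [w0L, nS, ← s0, ← s1, ← s2, ← s3, mul_assoc]
    rfl
  rw [e]
  exact mul_mem (mul_mem h1 hT') (mul_mem (mul_mem h1 hT') (mul_mem h1 hT'))

theorem n0_conj {p m : ℕ} (hp : (p, m) ∈ [(d4p1, d4m1), (d4p2, d4m2), (d4p3, d4m3), (d4p4, d4m4)]) :
    ∃ c : K, c ≠ 0 ∧ ∀ t : K, n0 K * xU chevD4 p t * (n0 K)⁻¹ = xU chevD4 m (c * t) := by
  have hF := DataD4.facts
  obtain ⟨h1, -⟩ := w_tables
  have hp24 : p < chevD4.nroots := by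
    revert hp
    simp only [List.mem_cons, Prod.mk.injEq, List.not_mem_nil, or_false]
    rintro (⟨rfl, -⟩ | ⟨rfl, -⟩ | ⟨rfl, -⟩ | ⟨rfl, -⟩) <;> decide
  obtain ⟨c, hc, h, -⟩ := (hF.permAct_nW (F := K) w0L) ⟨p, hp24⟩
  refine ⟨c, hc, fun t => ?_⟩
  rw [n0, h t, hF.sW_val_foldr]
  exact congrArg (fun r => xU chevD4 r (c * t)) (h1 (p, m) hp).2.1

/-- A fixed product over the negative triple is determined by its first entry. -/
theorem eq_triN {a b c : K}
    (h : xU chevD4 d4m1 a * (xU chevD4 d4m3 b * xU chevD4 d4m4 c) ∈ twistedD4 K q) :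
    xU chevD4 d4m1 a * (xU chevD4 d4m3 b * xU chevD4 d4m4 c) = triN C a := by
  obtain ⟨c1, hc1, k1⟩ := n0_conj (K := K) (p := d4p1) (m := d4m1) (by simp)
  obtain ⟨c3, hc3, k3⟩ := n0_conj (K := K) (p := d4p3) (m := d4m3) (by simp)
  obtain ⟨c4, hc4, k4⟩ := n0_conj (K := K) (p := d4p4) (m := d4m4) (by simp)
  have key : ∀ b c : K, xU chevD4 d4m1 a * (xU chevD4 d4m3 b * xU chevD4 d4m4 c) ∈ twistedD4 K q →
      xU chevD4 d4m1 a * (xU chevD4 d4m3 b * xU chevD4 d4m4 c) = n0 K * tri C (a / c1) * (n0 K)⁻¹ := by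
    intro b c h
    have e : n0 K * (xU chevD4 d4p1 (a / c1) * (xU chevD4 d4p3 (b / c3) * xU chevD4 d4p4 (c / c4))) *
        (n0 K)⁻¹ = xU chevD4 d4m1 a * (xU chevD4 d4m3 b * xU chevD4 d4m4 c) := by
      have k := fun u v w : GL chevD4.Idx K => show n0 K * (u * (v * w)) * (n0 K)⁻¹ =
        n0 K * u * (n0 K)⁻¹ * (n0 K * v * (n0 K)⁻¹ * (n0 K * w * (n0 K)⁻¹)) by group
      rw [k, k1, k3, k4, mul_div_cancel₀ _ hc1, mul_div_cancel₀ _ hc3, mul_div_cancel₀ _ hc4]
    rw [← e] at h ⊢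
    have h' := mul_mem (mul_mem (inv_mem (n0_mem C)) h) (n0_mem C)
    rw [show ∀ x : GL chevD4.Idx K, (n0 K)⁻¹ * (n0 K * x * (n0 K)⁻¹) * n0 K = x from
      fun x => by group] at h'
    rw [eq_tri C h']
  have e0 : triN C a = xU chevD4 d4m1 a * (xU chevD4 d4m3 (a ^ q) * xU chevD4 d4m4 (a ^ (q ^ 2))) := by
    simp [triN, wU]
  rw [key b c h, e0, key _ _ (e0 ▸ triN_mem C a)]

theorem n0_inverts {c : ℕ → Kˣ} :
    n0 K * hT chevD4 c * (n0 K)⁻¹ = (hT chevD4 c)⁻¹ := by
  have hF := DataD4.facts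
  obtain ⟨c', hc'⟩ := hF.mem_diagonal_iff.1 (hF.conj_diagonal (hF.nW_mem (F := K) w0L)
    (hF.mem_diagonal_iff.2 ⟨c, rfl⟩ : hT chevD4 c ∈ chevD4.diagonalSubgroup K))
  change n0 K * hT chevD4 c * (n0 K)⁻¹ = hT chevD4 c' at hc'
  have hi := permAct_intertwine hF (hF.permAct_nW (F := K) w0L) (c := c') (c' := c)
    (mul_inv_eq_iff_eq_mul.1 hc')
  rw [hc']
  refine eq_inv_of_mul_eq_one_left ?_
  rw [← hF.hT_mul]
  refine hF.hT_eq_one_of_simple _ fun i hi' => ?_
  obtain ⟨h1, -⟩ := w_tables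
  obtain ⟨-, -, -, -, -, -, -, -, hneg⟩ := root_rows
  obtain ⟨s0, s1, s2, s3, -⟩ := torus_tables
  have key : ∀ p m : ℕ, (p, m) ∈ [(d4p1, d4m1), (d4p2, d4m2), (d4p3, d4m3), (d4p4, d4m4)] →
      m < chevD4.nroots → (∀ j : Fin 4, chevD4.cartan j.val m = -chevD4.cartan j.val p) →
      (∏ j ∈ Finset.range chevD4.rank, (c' j * c j) ^ chevD4.cartan j p) = 1 := by
    intro p m hpm hm hcart
    have := hi ⟨m, hm⟩
    rw [show (sW chevD4 w0L ⟨m, hm⟩).val = p by rw [hF.sW_val_foldr]; exact (h1 _ hpm).1] at this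
    simp only [chiT] at this
    simp only [mul_zpow, Finset.prod_mul_distrib]
    rw [← this, ← Finset.prod_mul_distrib]
    refine Finset.prod_eq_one fun j hj => ?_
    rw [Finset.mem_range, show chevD4.rank = 4 from tables.2.1] at hj
    rw [show chevD4.cartan j m = -chevD4.cartan j p from hcart ⟨j, hj⟩, zpow_neg, inv_mul_cancel]
  have : i < 4 := hi'
  interval_cases i
  · rw [s0, ← Units.val_one, Units.val_inj]; exact key d4p1 d4m1 (by simp) (by decide) fun j => by
      rw [← show chevD4.neg d4p1 = d4m1 from (h1 (d4p1, d4m1) (by simp)).2.2]; exact (hneg j).1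
  · rw [s1, ← Units.val_one, Units.val_inj]; exact key d4p2 d4m2 (by simp) (by decide) fun j => by
      rw [← show chevD4.neg d4p2 = d4m2 from (h1 (d4p2, d4m2) (by simp)).2.2]; exact (hneg j).2.1
  · rw [s2, ← Units.val_one, Units.val_inj]; exact key d4p3 d4m3 (by simp) (by decide) fun j => by
      rw [← show chevD4.neg d4p3 = d4m3 from (h1 (d4p3, d4m3) (by simp)).2.2]; exact (hneg j).2.2.1
  · rw [s3, ← Units.val_one, Units.val_inj]; exact key d4p4 d4m4 (by simp) (by decide) fun j => by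
      rw [← show chevD4.neg d4p4 = d4m4 from (h1 (d4p4, d4m4) (by simp)).2.2]; exact (hneg j).2.2.2

/-- The criterion of generation. -/
theorem le_of_parts {S : Subgroup (GL chevD4.Idx K)} (hT' : ∀ t, tri C t ∈ S)
    (h22 : ∀ s : K, s ^ q = s → xU chevD4 22 s ∈ S) (hn : n0 K ∈ S) : twistedD4 K q ≤ S := by
  have hF := DataD4.facts
  have conj : ∀ {n x : GL chevD4.Idx K}, n ∈ S → x ∈ S → n * x * n⁻¹ ∈ S := fun hn hx =>
    mul_mem (mul_mem hn hx) (inv_mem hn)
  obtain ⟨c1, hc1, k1⟩ := n0_conj (K := K) (p := d4p1) (m := d4m1) (by simp)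
  obtain ⟨c3, -, k3⟩ := n0_conj (K := K) (p := d4p3) (m := d4m3) (by simp)
  obtain ⟨c4, -, k4⟩ := n0_conj (K := K) (p := d4p4) (m := d4m4) (by simp)
  have hTn : ∀ t, triN C t ∈ S := by
    intro t
    have hS := conj hn (hT' (t / c1))
    have hG := mul_mem (mul_mem (n0_mem C) (tri_mem C (t / c1))) (inv_mem (n0_mem C))
    have e : n0 K * tri C (t / c1) * (n0 K)⁻¹ = n0 K * xU chevD4 d4p1 (t / c1) * (n0 K)⁻¹ *
        (n0 K * xU chevD4 d4p3 ((t / c1) ^ q) * (n0 K)⁻¹ *
          (n0 K * xU chevD4 d4p4 ((t / c1) ^ (q ^ 2)) * (n0 K)⁻¹)) := by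
      simp only [tri, wU, List.map_cons, List.map_nil, List.prod_cons, List.prod_nil, mul_one]
      group
    rw [e, k1, k3, k4, mul_div_cancel₀ _ hc1] at hS hG
    rwa [eq_triN C hG] at hS
  have hnT : nT K ∈ S := by
    rw [nT_tri C]; exact mul_mem (mul_mem (hT' _) (hTn _)) (hT' _)
  have hnTG : nT K ∈ twistedD4 K q := by
    rw [nT_tri C]; exact mul_mem (mul_mem (tri_mem C _) (triN_mem C _)) (tri_mem C _)
  have fix_scalar : ∀ {r : ℕ} {c : K}, r < 24 → parD4.rho r = r → parD4.eps r = 1 →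
      xU chevD4 r c ∈ twistedD4 K q → c ^ q = c := fun hr24 hr he h => by
    rw [← C.hf]
    have e := (C.img_one hr24 he _).unique (C.sys.le_fix h)
    rw [hr] at e
    exact hF.xU_left_inj (by rw [tables.1]; exact hr24) e
  obtain ⟨-, -, c22, r22, e22, -⟩ := root_rows
  obtain ⟨-, -, -, -, -, e4, -, -, -, e8, -, s2, -, -, -, t2, -⟩ := tables
  obtain ⟨c, hc, kc, -⟩ := (hF.permAct_nW (F := K) wTL) ⟨22, by decide +kernel⟩
  rw [show (sW chevD4 wTL ⟨22, by decide +kernel⟩).val = d4p2 by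
    rw [hF.sW_val_foldr]; exact w_tables.2] at kc
  change ∀ t : K, nT K * xU chevD4 22 t * (nT K)⁻¹ = xU chevD4 d4p2 (c * t) at kc
  have hcq : c ^ q = c := by
    have := mul_mem (mul_mem hnTG (x22_mem C (one_pow q))) (inv_mem hnTG)
    rw [kc, mul_one] at this
    exact fix_scalar (by decide) e4 s2 this
  have hp2 : ∀ s : K, s ^ q = s → xU chevD4 d4p2 s ∈ S := fun s hs => by
    have := conj hnT (h22 (s / c) (by rw [div_pow, hs, hcq]))
    rwa [kc, mul_div_cancel₀ _ hc] at this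
  obtain ⟨d, hd, kd⟩ := n0_conj (K := K) (p := d4p2) (m := d4m2) (by simp)
  have h14 : ∀ s : K, s ^ q = s → xU chevD4 d4p2 s ∈ twistedD4 K q := fun s hs => by
    simpa [wU] using C.mem_gen (Or.inl ⟨s, hs, d4p2, by simp, rfl⟩)
  have hdq : d ^ q = d := by
    have := mul_mem (mul_mem (n0_mem C) (h14 1 (one_pow q))) (inv_mem (n0_mem C))
    rw [kd, mul_one] at this
    exact fix_scalar (by decide) e8 t2 this
  have hm2 : ∀ s : K, s ^ q = s → xU chevD4 d4m2 s ∈ S := fun s hs => by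
    have := conj hn (hp2 (s / d) (by rw [div_pow, hs, hdq]))
    rwa [kd, mul_div_cancel₀ _ hd] at this
  rw [C.gen_eq, Subgroup.closure_le]
  rintro g ⟨w, hw, rfl⟩
  rcases hw with ⟨t, ht, r, hr, rfl⟩ | ⟨t, rs, hrs, rfl⟩
  · simp only [List.mem_cons, List.not_mem_nil, or_false] at hr
    rcases hr with rfl | rfl
    · simpa [wU] using hp2 t ht
    · simpa [wU] using hm2 t ht
  · simp only [List.mem_cons, List.not_mem_nil, or_false] at hrs
    rcases hrs with rfl | rfl
    · exact hT' t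
    · exact hTn t

/-- The subgroup of parameters of the triple contains everything. -/
theorem tri_all {S : Subgroup (GL chevD4.Idx K)} {A : Kˣ} (hA : ∀ x, x ∈ Subgroup.zpowers A)
    (hh' : hh C A ∈ S) {t0 : K} (h0 : t0 ≠ 0) (ht : tri C t0 ∈ S) : ∀ t, tri C t ∈ S := by
  have hstep : ∀ t, tri C t ∈ S → tri C ((A : K) * A * t) ∈ S := fun t h => by
    rw [← hh_tri]; exact mul_mem (mul_mem hh' h) (inv_mem hh')
  have hadd : ∀ a b, tri C a ∈ S → tri C b ∈ S → tri C (a + b) ∈ S := fun a b ha hb => by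
    rw [← tri_add]; exact mul_mem ha hb
  have hsq : ∀ x : K, tri C (x ^ 2 * t0) ∈ S := by
    intro x
    rcases eq_or_ne x 0 with rfl | hx
    · simp [tri_zero]
    · obtain ⟨n, hn⟩ := (mem_powers_iff_mem_zpowers (x := A)).2 (hA (Units.mk0 x hx))
      have hx' : x = (A : K) ^ n := by
        have := congrArg Units.val hn
        simpa using this.symm
      subst hx'
      clear hn hx
      induction n with
      | zero => simpa using ht
      | succ n ih =>
        rw [show ((A : K) ^ (n + 1)) ^ 2 * t0 = (A : K) * A * (((A : K) ^ n) ^ 2 * t0) by ring]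
        exact hstep _ ih
  intro t
  by_cases h2 : (2 : K) = 0
  · haveI : CharP K 2 := (CharP.charP_iff_prime_eq_zero Nat.prime_two).2 (by exact_mod_cast h2)
    obtain ⟨x, hx⟩ := (FiniteField.isSquare_of_char_two (ringChar.eq K 2) (t / t0))
    have := hsq x
    rwa [sq, ← hx, div_mul_cancel₀ _ h0] at this
  · obtain ⟨x, y, hxy⟩ := CfsgLib.Classical.exists_sq_add_sq h2 (t / t0)
    have := hadd _ _ (hsq x) (hsq y)
    rwa [← add_mul, hxy, div_mul_cancel₀ _ h0] at this

include C in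
/-- Two generators. -/
theorem two_generated : ∃ a b : ↥(twistedD4 K q), Subgroup.closure ({a, b} : Set ↥(twistedD4 K q)) = ⊤ := by
  classical
  have hq := C.q_gt
  obtain ⟨A, hA⟩ := IsCyclic.exists_generator (α := Kˣ)
  have hord : orderOf A = q ^ 3 - 1 := by
    rw [orderOf_eq_card_of_forall_mem_zpowers hA, Nat.card_units, Nat.card_eq_fintype_card, C.card]
  set h := hh C A with hh0
  have hhG := hh_mem C A
  have hinv : n0 K * h * (n0 K)⁻¹ = h⁻¹ := n0_inverts
  set ν : Kˣ := A * C.fu A * C.fu (C.fu A) with hν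
  have hμ : ((A : K) * A) ^ q ≠ (A : K) * A := by
    intro e
    have h1 : A ^ (2 * (q - 1)) = 1 := by
      refine mul_right_cancel (b := A ^ 2) ?_
      rw [one_mul, ← pow_add, show 2 * (q - 1) + 2 = 2 * q by omega, pow_mul]
      refine Units.ext ?_
      rw [Units.val_pow_eq_pow_val, Units.val_pow_eq_pow_val, sq]
      exact e
    have h2 := Nat.le_of_dvd (by omega) (orderOf_dvd_iff_pow_eq_one.2 h1)
    rw [hord] at h2
    have h8 : q * 4 ≤ q ^ 3 := by
      rw [show q ^ 3 = q * (q * q) by ring]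
      exact Nat.mul_le_mul_left q (by nlinarith)
    omega
  by_cases hq2 : q = 2
  · -- the field with two elements
    have hν1 : ν = 1 := by
      have hfix : C.fu ν = ν := by
        rw [hν, map_mul, map_mul, C.fu_three]; ac_rfl
      have := congrArg Units.val hfix
      rw [C.fu_val, hq2] at this
      exact Units.ext (mul_left_cancel₀ ν.ne_zero (by rw [Units.val_one, mul_one, ← sq]; exact this))
    have h2 : (2 : K) = 0 := by
      have e2 := FiniteField.cast_card_eq_zero K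
      rw [C.card, hq2] at e2
      push_cast at e2
      refine (pow_eq_zero_iff (n := 3) (by norm_num)).1 ?_
      linear_combination e2
    have hc : Commute h (xU chevD4 22 (1 : K)) := by
      have e := hh_x22 C A 1
      rw [← hν, hν1, Units.val_one, one_mul] at e
      exact mul_inv_eq_iff_eq_mul.1 e
    have hx2 : xU chevD4 22 (1 : K) ^ 2 = 1 := by
      rw [sq, DataD4.facts.xU_add (by decide), show (1 : K) + 1 = 2 by norm_num, h2,
        DataD4.facts.xU_zero (by decide)]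
    have hh7 : h ^ 7 = 1 := by
      rw [hh0, hh]
      have hA7 : A ^ 7 = 1 := by
        rw [show 7 = q ^ 3 - 1 by rw [hq2]; norm_num, ← hord, pow_orderOf_eq_one]
      have hpow : ∀ n : ℕ, hT chevD4 (C.vec A 1) ^ n = hT chevD4 fun i => C.vec A 1 i ^ n := by
        intro n
        induction n with
        | zero => simp [DataD4.facts.hT_one]
        | succ n ih => rw [pow_succ, ih, ← DataD4.facts.hT_mul]; simp [pow_succ]
      rw [hpow]
      refine (DataD4.facts.hT_congr fun i hi => ?_).trans DataD4.facts.hT_one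
      have hi4 : i < 4 := hi
      interval_cases i <;> simp [Ctx.vec, ← map_pow, hA7]
    refine two_gen_of_le (a := h * xU chevD4 22 1) (b := tri C 1 * n0 K)
      (mul_mem hhG (x22_mem C (one_pow q))) (mul_mem (tri_mem C 1) (n0_mem C)) ?_
    set S := Subgroup.closure ({h * xU chevD4 22 (1 : K), tri C 1 * n0 K} : Set (GL chevD4.Idx K))
    have ha : h * xU chevD4 22 (1 : K) ∈ S := Subgroup.subset_closure (Or.inl rfl)
    have hb : tri C 1 * n0 K ∈ S := Subgroup.subset_closure (Or.inr rfl)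
    have hhS : h ∈ S := by
      have := pow_mem ha 8
      rwa [hc.mul_pow, show (8 : ℕ) = 7 + 1 from rfl, pow_succ, hh7, one_mul,
        show 7 + 1 = 2 * 4 from rfl, pow_mul, hx2, one_pow, mul_one] at this
    have hxS : xU chevD4 22 (1 : K) ∈ S := by
      have := mul_mem (inv_mem hhS) ha
      rwa [inv_mul_cancel_left] at this
    have hy : tri C (1 - ((A : K) * A)⁻¹) ∈ S := by
      have := mul_mem (mul_mem (mul_mem hb hhS) (inv_mem hb)) hhS
      rw [show tri C 1 * n0 K * h * (tri C 1 * n0 K)⁻¹ * h =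
        tri C 1 * (n0 K * h * (n0 K)⁻¹) * (tri C 1)⁻¹ * h by group, hinv, tri_inv,
        show tri C 1 * h⁻¹ * tri C (-1) * h = tri C 1 * (h⁻¹ * tri C (-1) * h) by group] at this
      have e := hh_tri C A (-((A : K) * A)⁻¹)
      rw [mul_neg, mul_inv_cancel₀ (mul_ne_zero A.ne_zero A.ne_zero), ← hh0] at e
      rwa [show h⁻¹ * tri C (-1) * h = tri C (-((A : K) * A)⁻¹) by rw [← e]; group, tri_add,
        ← sub_eq_add_neg] at this
    have hT' := tri_all C hA hhS (t0 := 1 - ((A : K) * A)⁻¹) (fun e => hμ (by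
      rw [sub_eq_zero, eq_comm, inv_eq_one] at e
      rw [e, one_pow])) hy
    refine le_of_parts C hT' (fun s hs => ?_) ?_
    · rw [hq2] at hs
      rcases eq_or_ne s 0 with rfl | hs0
      · rw [DataD4.facts.xU_zero (by decide)]; exact one_mem _
      · rwa [show s = 1 from mul_left_cancel₀ hs0 (by rw [mul_one, ← sq, hs])]
    · have := mul_mem (inv_mem (hT' 1)) hb
      rwa [inv_mul_cancel_left] at this
  -- larger fields
  have hν' : orderOf ν = q - 1 := by
    have e : ν = A ^ (q ^ 2 + q + 1) := by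
      rw [hν]
      refine Units.ext ?_
      push_cast
      rw [C.fu_val, C.fu_val, C.fu_val, ← pow_mul]
      ring
    have hs : q ^ 3 - 1 = (q - 1) * (q ^ 2 + q + 1) := by
      obtain ⟨k, rfl⟩ : ∃ k, q = k + 1 := ⟨q - 1, by omega⟩
      rw [Nat.add_sub_cancel, Nat.sub_eq_iff_eq_add (Nat.one_le_pow _ _ (by omega))]
      ring
    rw [e, orderOf_pow' _ (by positivity), hord, hs, Nat.gcd_mul_left_left]
    exact Nat.mul_div_cancel _ (by positivity)
  refine two_gen_of_le (a := h) (b := tri C 1 * xU chevD4 22 1 * n0 K) hhG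
    (mul_mem (mul_mem (tri_mem C 1) (x22_mem C (one_pow q))) (n0_mem C)) ?_
  set S := Subgroup.closure ({h, tri C 1 * xU chevD4 22 (1 : K) * n0 K} : Set (GL chevD4.Idx K))
  have hhS : h ∈ S := Subgroup.subset_closure (Or.inl rfl)
  have hb : tri C 1 * xU chevD4 22 (1 : K) * n0 K ∈ S := Subgroup.subset_closure (Or.inr rfl)
  have hF := DataD4.facts
  set t1 : K := 1 - ((A : K) * A)⁻¹ with ht1
  set s1 : K := 1 - ((ν : K))⁻¹ with hs1
  have hs1q : s1 ^ q = s1 := by
    rw [← C.hf, hs1, map_sub, map_one, map_inv₀, C.hf, ← Units.val_pow_eq_pow_val,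
      show ν ^ q = ν by rw [show q = (q - 1) + 1 by omega, pow_succ, ← hν', pow_orderOf_eq_one, one_mul]]
  have hy : tri C t1 * xU chevD4 22 s1 ∈ S := by
    have := mul_mem (mul_mem (mul_mem hb hhS) (inv_mem hb)) hhS
    rw [show tri C 1 * xU chevD4 22 1 * n0 K * h * (tri C 1 * xU chevD4 22 1 * n0 K)⁻¹ * h =
      tri C 1 * xU chevD4 22 1 * (n0 K * h * (n0 K)⁻¹) * (xU chevD4 22 1)⁻¹ * (tri C 1)⁻¹ * h by group,
      hinv, tri_inv, hF.xU_inv (by decide),
      show tri C 1 * xU chevD4 22 1 * h⁻¹ * xU chevD4 22 (-1) * tri C (-1) * h =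
        tri C 1 * (xU chevD4 22 1 * (h⁻¹ * xU chevD4 22 (-1) * h)) * (h⁻¹ * tri C (-1) * h) by group]
      at this
    have e := hh_tri C A (-((A : K) * A)⁻¹)
    rw [mul_neg, mul_inv_cancel₀ (mul_ne_zero A.ne_zero A.ne_zero), ← hh0] at e
    have e' := hh_x22 C A (-((ν : K))⁻¹)
    rw [← hν, mul_neg, mul_inv_cancel₀ ν.ne_zero, ← hh0] at e'
    rwa [show h⁻¹ * tri C (-1) * h = tri C (-((A : K) * A)⁻¹) by rw [← e]; group,
      show h⁻¹ * xU chevD4 22 (-1) * h = xU chevD4 22 (-((ν : K))⁻¹) by rw [← e']; group,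
      hF.xU_add (by decide), ← sub_eq_add_neg, mul_assoc, (comm22 C _ _).symm.eq, ← mul_assoc, tri_add,
      ← sub_eq_add_neg] at this
  have hstep : ∀ t s, tri C t * xU chevD4 22 s ∈ S →
      tri C ((A : K) * A * t) * xU chevD4 22 ((ν : K) * s) ∈ S := fun t s ht => by
    have := mul_mem (mul_mem hhS ht) (inv_mem hhS)
    rwa [show h * (tri C t * xU chevD4 22 s) * h⁻¹ = h * tri C t * h⁻¹ * (h * xU chevD4 22 s * h⁻¹) by
      group, hh_tri, hh_x22, ← hν] at this
  have hiter : ∀ k, tri C (((A : K) * A) ^ k * t1) * xU chevD4 22 ((ν : K) ^ k * s1) ∈ S := by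
    intro k
    induction k with
    | zero => simpa using hy
    | succ k ih =>
      have := hstep _ _ ih
      rwa [← mul_assoc ((A : K) * A), ← pow_succ', ← mul_assoc (ν : K), ← pow_succ'] at this
  have ht1' : t1 ≠ 0 := fun e => hμ (by
    rw [ht1, sub_eq_zero, eq_comm, inv_eq_one] at e
    rw [e, one_pow])
  have hsep : tri C ((((A : K) * A) ^ q - (A : K) * A) * t1) ∈ S := by
    have := mul_mem (hiter q) (inv_mem (hiter 1))
    rw [pow_one, pow_one, show (ν : K) ^ q = ν by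
      rw [← Units.val_pow_eq_pow_val, show ν ^ q = ν by
        rw [show q = (q - 1) + 1 by omega, pow_succ, ← hν', pow_orderOf_eq_one, one_mul]],
      mul_inv_rev, tri_inv, hF.xU_inv (by decide),
      show ∀ a b c d : GL chevD4.Idx K, a * b * (c * d) = a * (b * c) * d from fun a b c d => by group,
      hF.xU_add (by decide), add_neg_cancel, hF.xU_zero (by decide), mul_one, tri_add] at this
    rwa [sub_mul, sub_eq_add_neg]
  have hT' := tri_all C hA hhS (mul_ne_zero (sub_ne_zero.2 hμ) ht1') hsep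
  have hxk : ∀ k : ℕ, xU chevD4 22 ((ν : K) ^ k * s1) ∈ S := fun k => by
    have := mul_mem (inv_mem (hT' (((A : K) * A) ^ k * t1))) (hiter k)
    rwa [inv_mul_cancel_left] at this
  have hν1 : ν ≠ 1 := fun e => by rw [e, orderOf_one] at hν'; omega
  have hs10 : s1 ≠ 0 := fun e => hν1 (Units.ext (by
    rw [hs1, sub_eq_zero, eq_comm, inv_eq_one] at e
    exact e))
  have hX : ∀ s : K, s ^ q = s → xU chevD4 22 s ∈ S := fun s hs => by
    rcases eq_or_ne s 0 with rfl | hs0
    · rw [hF.xU_zero (by decide)]; exact one_mem _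
    · set u : Kˣ := Units.mk0 (s / s1) (div_ne_zero hs0 hs10)
      have hu : u ^ (q - 1) = 1 := by
        refine mul_right_cancel (b := u) ?_
        rw [one_mul, ← pow_succ, show q - 1 + 1 = q by omega]
        refine Units.ext ?_
        rw [Units.val_pow_eq_pow_val, Units.val_mk0, div_pow, hs, hs1q]
      obtain ⟨k, hk⟩ : ∃ k : ℕ, ν ^ k = u := by
        have hle : Subgroup.zpowers ν ≤ (powMonoidHom (q - 1) : Kˣ →* Kˣ).ker := by
          rw [Subgroup.zpowers_le, MonoidHom.mem_ker, powMonoidHom_apply, ← hν', pow_orderOf_eq_one]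
        have heq := Subgroup.eq_of_le_of_card_ge hle (by
          rw [Nat.card_zpowers, hν', IsCyclic.card_powMonoidHom_ker, Nat.card_units,
            Nat.card_eq_fintype_card, C.card, Nat.gcd_eq_right]
          simpa using Nat.sub_dvd_pow_sub_pow q 1 3)
        obtain ⟨k, hk⟩ := (mem_powers_iff_mem_zpowers (x := ν)).2 (heq ▸ (by
          rw [MonoidHom.mem_ker, powMonoidHom_apply]; exact hu) : u ∈ Subgroup.zpowers ν)
        exact ⟨k, hk⟩
      have := hxk k
      rwa [← Units.val_pow_eq_pow_val, hk, Units.val_mk0, div_mul_cancel₀ _ hs10] at this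
  refine le_of_parts C hT' hX ?_
  have := mul_mem (inv_mem (mul_mem (hT' 1) (hX 1 (one_pow q)))) hb
  rwa [inv_mul_cancel_left] at this

end CfsgLib.Chev.TwD4.TwoGen
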