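/-
Two generators of the twisted groups of type ²E₆.
-/
import Mathlib
import Cfsg.Agent.Lib.Chev.Twist.E6Main
import Cfsg.Agent.Lib.Classical.UnitTwoGen.Gen
import Cfsg.Agent.Lib.Chev.TwoGen.Base

set_option autoImplicit false
set_option maxRecDepth 20000

namespace CfsgLib.Chev.TwE6.TwoGen

open Cfsg.Lie

universe v

/-- The word of the Coxeter element. -/
def cox : List (Fin chevE6.rank) :=
  (O ⟨0, by decide⟩).word ++ ((O ⟨1, by decide⟩).word ++ ((O ⟨2, by decide⟩).word ++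
    (O ⟨3, by decide⟩).word))

/-- The word of a power of the Coxeter element. -/
def coxPow : ℕ → List (Fin chevE6.rank)
  | 0 => []
  | k + 1 => coxPow k ++ cox

/-- The moves of the simple orbits under the powers of the Coxeter element. -/
def moves : List (ℕ × List ℕ × List ℕ) :=
  [(1, [e6p2], [e6p4]), (11, [e6p4], [e6p2]), (6, [e6m2], [e6p2]), (5, [e6m4], [e6p2]),
    (1, [e6p3, e6p5], [e6p1, e6p6]), (7, [e6m3, e6m5], [e6p1, e6p6]),
    (6, [e6m1, e6m6], [e6p1, e6p6])]

theorem move_tables : (∀ c ∈ moves, ∀ r ∈ c.2.1,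
      ((coxPow c.1).map Fin.val).foldr (fun i x => chevE6.reflectRoot i x) r ∈ c.2.2) ∧
    ∀ r ∈ [e6p1, e6p6],
      (cox.reverse.map Fin.val).foldr (fun i x => chevE6.reflectRoot i x) r ∈ [e6p3, e6p5] := by
  decide +kernel

variable {K : Type v} [Field K] [Fintype K] {q : ℕ} (C : Ctx K q)

/-- An element of the pair of the first node. -/
noncomputable def pr (t : K) : GL chevE6.Idx K := xU chevE6 e6p1 t * xU chevE6 e6p6 (C.f t)

theorem pr_mem (t : K) : pr C t ∈ twistedE6 K q := C.two_mem (rs := (e6p1, e6p6)) (by simp) t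

theorem pr_add (s t : K) : pr C s * pr C t = pr C (s + t) := by
  have hF := DataE6.facts
  obtain ⟨A, -, -, -⟩ := C.commute_pair (rs := (e6p1, e6p6)) (by simp)
  rw [pr, pr, (A (C.f s) t).mul_mul_mul_comm, hF.xU_add (by decide), hF.xU_add (by decide), ← map_add]
  rfl

theorem pr_zero : pr C 0 = 1 := by
  have h : pr C 0 * pr C 0 = pr C 0 := by rw [pr_add, add_zero]
  exact mul_eq_left.1 h

theorem pr_inv (t : K) : (pr C t)⁻¹ = pr C (-t) :=
  inv_eq_of_mul_eq_one_right (by rw [pr_add, add_neg_cancel, pr_zero])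

theorem pr_closure (t : K) : pr C t ∈ rootClosure chevE6 K (· ∈ [e6p1, e6p6]) :=
  mul_mem (xU_mem_rootClosure (by decide) (by simp) _) (xU_mem_rootClosure (by decide) (by simp) _)

include C in
theorem pr_eq {g : GL chevE6.Idx K} (hg : g ∈ twistedE6 K q)
    (h : g ∈ rootClosure chevE6 K (· ∈ [e6p1, e6p6])) : ∃ t, g = pr C t := by
  obtain ⟨t, rfl⟩ := C.posO_pair (rs := (e6p1, e6p6)) (by simp) coords.2.2.2 (C.sys.le_fix hg) h
  exact ⟨t, by simp [pr, wU, C.hf]⟩

/-- The Coxeter element. -/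
noncomputable def nn : GL chevE6.Idx K :=
  C.sys.nO ⟨0, by decide⟩ * (C.sys.nO ⟨1, by decide⟩ *
    (C.sys.nO ⟨2, by decide⟩ * C.sys.nO ⟨3, by decide⟩))

theorem nn_mem : nn C ∈ twistedE6 K q :=
  mul_mem (C.sys.nO_mem _) (mul_mem (C.sys.nO_mem _) (mul_mem (C.sys.nO_mem _) (C.sys.nO_mem _)))

theorem nn_monomial : nn C ∈ chevE6.monomialSubgroup K :=
  mul_mem (C.sys.nO_monomial _)
    (mul_mem (C.sys.nO_monomial _) (mul_mem (C.sys.nO_monomial _) (C.sys.nO_monomial _)))

theorem nn_perm : PermAct (nn C) (sW chevE6 cox) := by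
  have hF := DataE6.facts
  have := hF.permAct_mul (C.sys.nO_perm ⟨0, by decide⟩) (hF.permAct_mul (C.sys.nO_perm ⟨1, by decide⟩)
    (hF.permAct_mul (C.sys.nO_perm ⟨2, by decide⟩) (C.sys.nO_perm ⟨3, by decide⟩)))
  rw [cox, sW_append, sW_append, sW_append]
  exact this

theorem nn_pow_perm (k : ℕ) : PermAct (nn C ^ k) (sW chevE6 (coxPow k)) := by
  have hF := DataE6.facts
  induction k with
  | zero => rw [pow_zero]; exact hF.permAct_diagonal (one_mem _)
  | succ k ih =>
    rw [pow_succ, show coxPow (k + 1) = coxPow k ++ cox from rfl, sW_append]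
    exact hF.permAct_mul ih (nn_perm C)

theorem move {c : ℕ × List ℕ × List ℕ} (hc : c ∈ moves) {g : GL chevE6.Idx K}
    (hg : g ∈ rootClosure chevE6 K (· ∈ c.2.1)) :
    nn C ^ c.1 * g * (nn C ^ c.1)⁻¹ ∈ rootClosure chevE6 K (· ∈ c.2.2) := by
  refine DataE6.facts.conj_rootClosure (nn_pow_perm C c.1) (fun s hs => ?_) hg
  rw [DataE6.facts.sW_val_foldr]
  exact move_tables.1 c hc _ hs

include C in
set_option maxHeartbeats 1000000 in
theorem two_generated :
    ∃ a b : ↥(twistedE6 K q), Subgroup.closure ({a, b} : Set ↥(twistedE6 K q)) = ⊤ := by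
  classical
  have hF := DataE6.facts
  have hq := C.q_gt
  obtain ⟨lam, hlam⟩ := IsCyclic.exists_generator (α := Kˣ)
  have hord : orderOf lam = q ^ 2 - 1 := by
    rw [orderOf_eq_card_of_forall_mem_zpowers hlam, Nat.card_eq_fintype_card, Fintype.card_units, C.card]
  have h4 : 4 ≤ q ^ 2 := le_trans (by norm_num) (Nat.pow_le_pow_left hq 2)
  have hsmall : ∀ r, 0 < r → r < q ^ 2 - 1 → lam ^ r ≠ 1 := fun r h0 h1 e => by
    have := Nat.le_of_dvd h0 (orderOf_dvd_of_pow_eq_one e)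
    omega
  set e : Kˣ := lam⁻¹ with he
  set h := hT chevE6 (six 1 1 e 1 (C.fu e) (C.fu 1)) with hh
  have hhR : h ∈ C.par.range := C.mem_range 1 e (map_one C.fu) (map_one C.fu)
  have hhG : h ∈ twistedE6 K q := (C.range_le hhR).2
  obtain ⟨s0, s1, s2, s3, s4, s5, -⟩ := torus_tables
  obtain ⟨c0, c1, c2, c3, c4, c5⟩ := char_six 1 1 e 1 (C.fu e) (C.fu 1)
  set ν : Kˣ := lam * C.fu lam with hν
  have hν' : (1 : Kˣ) * 1 / (1 * e * C.fu e) = ν := by
    rw [he, map_inv, hν]
    simp [div_eq_mul_inv, mul_comm]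
  have h1 : ∀ u, h * xU chevE6 e6p1 u * h⁻¹ = xU chevE6 e6p1 ((lam : K) * u) := fun u => by
    rw [hh, hF.hT_conj_xU _ (by decide), ← s0, c0]
    simp [he, s0]
  have h6 : ∀ u, h * xU chevE6 e6p6 u * h⁻¹ = xU chevE6 e6p6 (C.f (lam : K) * u) := fun u => by
    rw [hh, hF.hT_conj_xU _ (by decide), ← s5, c5]
    simp [he, s5]
  have hconj : ∀ t, h * pr C t * h⁻¹ = pr C ((lam : K) * t) := fun t => by
    rw [pr, show ∀ x y : GL chevE6.Idx K, h * (x * y) * h⁻¹ = h * x * h⁻¹ * (h * y * h⁻¹) from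
      fun x y => by group, h1, h6, pr, map_mul]
  have h3 : ∀ u, h * xU chevE6 e6p3 u * h⁻¹ = xU chevE6 e6p3 (((e * e : Kˣ) : K) * u) := fun u => by
    rw [hh, hF.hT_conj_xU _ (by decide), ← s2, c2]
    simp [s2]
  have h4' : ∀ u, h * xU chevE6 e6p4 u * h⁻¹ = xU chevE6 e6p4 ((ν : K) * u) := fun u => by
    rw [hh, hF.hT_conj_xU _ (by decide), ← s3, c3, hν', s3]
  have h2 : ∀ u, h * xU chevE6 e6p2 u * h⁻¹ = xU chevE6 e6p2 u := fun u => by
    rw [hh, hF.hT_conj_xU _ (by decide), ← s1, c1]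
    simp [s1]
  obtain ⟨p, hch⟩ := CharP.exists K
  obtain ⟨k, hp, hcard⟩ := FiniteField.card K p
  have hpow : ∀ i : ℕ, xU chevE6 e6p2 (1 : K) ^ i = xU chevE6 e6p2 (i : K) := by
    intro i
    induction i with
    | zero => rw [pow_zero, Nat.cast_zero, hF.xU_zero (by decide)]
    | succ i ih => rw [pow_succ, ih, hF.xU_add (by decide), Nat.cast_succ]
  have hcop : Nat.Coprime (q ^ 2 - 1) p := by
    refine (hp.coprime_iff_not_dvd.2 fun hd => ?_).symm
    have h5 : p ∣ q ^ 2 := by rw [← C.card, hcard]; exact dvd_pow_self _ k.pos.ne'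
    have h6 := Nat.dvd_sub h5 hd
    rw [show q ^ 2 - (q ^ 2 - 1) = 1 by omega, Nat.dvd_one] at h6
    exact hp.ne_one h6
  have hh1 : h ^ (q ^ 2 - 1) = 1 := by
    obtain ⟨y, hy⟩ := hhR
    rw [← hy, ← map_pow, ← hord, orderOf_eq_card_of_forall_mem_zpowers hlam, Nat.card_eq_fintype_card,
      show y ^ Fintype.card Kˣ = 1 from Prod.ext (Prod.ext pow_card_eq_one pow_card_eq_one)
        (Prod.ext (Subtype.ext pow_card_eq_one) (Subtype.ext pow_card_eq_one)), map_one]
  set n := nn C with hn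
  refine CfsgLib.Chev.TwoGen.two_gen_of_le (a := h * xU chevE6 e6p2 1) (b := pr C 1 * n)
    (mul_mem hhG (C.one_mem (by simp) (one_pow q))) (mul_mem (pr_mem C 1) (nn_mem C)) ?_
  set S := Subgroup.closure ({h * xU chevE6 e6p2 (1 : K), pr C 1 * n} : Set (GL chevE6.Idx K))
  have haS : h * xU chevE6 e6p2 (1 : K) ∈ S := Subgroup.subset_closure (Or.inl rfl)
  have hbS : pr C 1 * n ∈ S := Subgroup.subset_closure (Or.inr rfl)
  obtain ⟨hhS, hxS⟩ := CfsgLib.Chev.TwoGen.split_coprime (mul_inv_eq_iff_eq_mul.1 (h2 1)) hcop hh1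
    (by rw [hpow, CharP.cast_eq_zero K p, hF.xU_zero (by decide)]) haS
  -- an element of the pair group
  obtain ⟨t0, ht0, hd0⟩ : ∃ t, t ≠ 0 ∧ pr C t ∈ S := by
    set x := pr C 1 with hx
    set z := n⁻¹ * x * n with hz
    have hzG : z ∈ twistedE6 K q := mul_mem (mul_mem (inv_mem (nn_mem C)) (pr_mem C 1)) (nn_mem C)
    have hz35 : z ∈ rootClosure chevE6 K (· ∈ [e6p3, e6p5]) := by
      have hi := hF.permAct_inv (nn_monomial C) (nn_perm C)
      rw [← hF.sW_reverse] at hi
      have := hF.conj_rootClosure hi (Q := (· ∈ [e6p3, e6p5])) (fun s hs => by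
        rw [hF.sW_val_foldr]; exact move_tables.2 _ hs) (pr_closure C 1)
      rwa [inv_inv] at this
    obtain ⟨c, hc⟩ := C.posO_pair (rs := (e6p3, e6p5)) (by simp) coords.2.2.1 (C.sys.le_fix hzG) hz35
    have hx1 : x ≠ 1 := fun e1 => by
      have := hF.coords_unique C.sig.hC coords.2.2.2 (ts := [(1 : K), C.f 1]) (ts' := [0, 0]) rfl rfl
        (by simpa [hx, pr, wU, hF.xU_zero (show e6p1 < chevE6.nroots by decide),
          hF.xU_zero (show e6p6 < chevE6.nroots by decide)] using e1)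
      simp at this
    have hzne : h * z * h⁻¹ ≠ z := by
      intro e1
      have e2 : h * z * h⁻¹ = h * xU chevE6 e6p3 c * h⁻¹ * (h * xU chevE6 e6p5 (c ^ q) * h⁻¹) := by
        rw [hc]; simp only [wU, List.map_cons, List.map_nil, List.prod_cons, List.prod_nil, mul_one]
        group
      rw [e1, h3, hh, hF.hT_conj_xU _ (by decide), hc] at e2
      have := hF.coords_unique C.sig.hC coords.2.2.1 (ts := [c, c ^ q])
        (ts' := [((e * e : Kˣ) : K) * c, _]) rfl rfl (by simpa [wU] using e2)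
      simp only [List.cons.injEq, and_true] at this
      have hc0 : c ≠ 0 := by
        rintro rfl
        rw [show wU chevE6 [(e6p3, (0 : K)), (e6p5, (0 : K) ^ q)] = 1 by
          simp [wU, zero_pow (show q ≠ 0 by omega), hF.xU_zero (show e6p3 < chevE6.nroots by decide),
            hF.xU_zero (show e6p5 < chevE6.nroots by decide)], hz] at hc
        exact hx1 ((conj_eq_one_iff (a := n⁻¹)).1 (by rwa [inv_inv]))
      have e3 : e * e = 1 := Units.ext ((mul_eq_right₀ hc0).1 this.1.symm)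
      rw [he, ← mul_inv, inv_eq_one, ← sq] at e3
      exact hsmall 2 two_pos (by omega) e3
    set h' := n * h * n⁻¹ with hh'
    have hh'x : h' * x * h'⁻¹ ∈ rootClosure chevE6 K (· ∈ [e6p1, e6p6]) := by
      rw [show h' * x * h'⁻¹ = nn C ^ 1 * (h * z * h⁻¹) * (nn C ^ 1)⁻¹ by
        rw [pow_one, ← hn, hh', hz]; group]
      refine move C (c := (1, [e6p3, e6p5], [e6p1, e6p6])) (by simp [moves]) ?_
      exact hF.conj_rootClosure (hF.permAct_diagonal (C.range_le hhR).1) (fun s hs => hs) hz35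
    obtain ⟨s, hs⟩ := pr_eq C (mul_mem (mul_mem (mul_mem (mul_mem (nn_mem C) hhG) (inv_mem (nn_mem C)))
      (pr_mem C 1)) (inv_mem (mul_mem (mul_mem (nn_mem C) hhG) (inv_mem (nn_mem C))))) hh'x
    have hs1 : s ≠ 1 := fun e1 => hzne (by
      rw [e1, ← hx, show nn C * h * (nn C)⁻¹ * x * (nn C * h * (nn C)⁻¹)⁻¹ = n * (h * z * h⁻¹) * n⁻¹ by
        rw [hz, hn]; group, mul_inv_eq_iff_eq_mul] at hs
      rw [← inv_mul_cancel_left n (h * z * h⁻¹), hs, hz, mul_assoc])
    have hcK : x * h' * x⁻¹ ∈ S := by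
      rw [hh', show x * (n * h * n⁻¹) * x⁻¹ = (x * n) * h * (x * n)⁻¹ by group]
      exact mul_mem (mul_mem hbS hhS) (inv_mem hbS)
    have hd := mul_mem (mul_mem (mul_mem hhS hcK) (inv_mem hhS)) (inv_mem hcK)
    have hcomm : Commute h h' := by
      obtain ⟨y', hy'⟩ := hF.mem_diagonal_iff.1
        (hF.conj_diagonal (nn_monomial C) (C.range_le hhR).1 : n * h * n⁻¹ ∈ _)
      rw [hh', hy', hh, Commute, SemiconjBy, ← hF.hT_mul, ← hF.hT_mul]
      exact hF.hT_congr fun i _ => mul_comm _ _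
    rw [CfsgLib.Chev.TwoGen.comm_conj hcomm, hh', hs, hx, pr_inv, pr_add, hconj, pr_inv, pr_add] at hd
    refine ⟨_, ?_, hd⟩
    rw [show (lam : K) * (1 + -s) + -(1 + -s) = ((lam : K) - 1) * (1 - s) by ring]
    refine mul_ne_zero (sub_ne_zero.2 fun e1 => hsmall 1 one_pos (by omega) ?_) (sub_ne_zero.2 hs1.symm)
    rw [pow_one]; exact Units.ext e1
  have hpair : ∀ t, pr C t ∈ S := by
    refine CfsgLib.Classical.UnitTwoGen.all_of_powers ht0 lam.ne_zero (fun r hr hrr e1 => ?_)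
      (fun t => pr C t ∈ S) (fun s t h1 h2 => pr_add C s t ▸ mul_mem h1 h2)
      (fun t h1 => pr_inv C t ▸ inv_mem h1) fun k => ?_
    · rw [C.card] at hrr
      have := Nat.mul_le_mul_right r hr
      exact hsmall (r - 1) (by omega) (by omega) (Units.ext (by simpa using e1))
    · induction k with
      | zero => rwa [pow_zero, one_mul]
      | succ k ih =>
        have := mul_mem (mul_mem hhS ih) (inv_mem hhS)
        rwa [hconj, ← mul_assoc, ← pow_succ'] at this
  have hnS : n ∈ S := by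
    have := mul_mem (inv_mem (hpair 1)) hbS
    rwa [inv_mul_cancel_left] at this
  -- pulling back along the powers of the Coxeter element
  have back : ∀ c ∈ moves,
      (∀ g, g ∈ twistedE6 K q → g ∈ rootClosure chevE6 K (· ∈ c.2.2) → g ∈ S) →
      ∀ g, g ∈ twistedE6 K q → g ∈ rootClosure chevE6 K (· ∈ c.2.1) → g ∈ S := by
    intro c hc hS g hgG hg
    have hk := pow_mem (nn_mem C) c.1
    have := hS _ (mul_mem (mul_mem hk hgG) (inv_mem hk)) (move C hc hg)
    have h5 := mul_mem (mul_mem (inv_mem (pow_mem hnS c.1)) this) (pow_mem hnS c.1)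
    rwa [hn, show (nn C ^ c.1)⁻¹ * (nn C ^ c.1 * g * (nn C ^ c.1)⁻¹) * nn C ^ c.1 = g by group] at h5
  have hX3 : ∀ g, g ∈ twistedE6 K q → g ∈ rootClosure chevE6 K (· ∈ [e6p1, e6p6]) → g ∈ S := by
    intro g hgG hg
    obtain ⟨t, rfl⟩ := pr_eq C hgG hg
    exact hpair t
  have hX1 : ∀ g, g ∈ twistedE6 K q → g ∈ rootClosure chevE6 K (· ∈ [e6p4]) → g ∈ S := by
    -- the image of the first long root element
    have h5 := move C (c := (1, [e6p2], [e6p4])) (by simp [moves]) (g := xU chevE6 e6p2 (1 : K))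
      (xU_mem_rootClosure (by decide) (by simp) _)
    simp only [pow_one] at h5
    obtain ⟨c, hc, hce⟩ := C.posO_single (r := e6p4) (by simp) coords.2.1 (C.sys.le_fix
      (mul_mem (mul_mem (nn_mem C) (C.one_mem (by simp) (one_pow q))) (inv_mem (nn_mem C)))) h5
    replace hce : nn C * xU chevE6 e6p2 1 * (nn C)⁻¹ = xU chevE6 e6p4 c := by simpa [wU] using hce
    have hc0 : c ≠ 0 := by
      rintro rfl
      rw [hF.xU_zero (by decide), conj_eq_one_iff] at hce
      exact one_ne_zero (hF.xU_eq_one (by decide) hce)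
    have hk : ∀ i : ℕ, xU chevE6 e6p4 ((ν : K) ^ i * c) ∈ S := by
      intro i
      induction i with
      | zero =>
        rw [pow_zero, one_mul, ← hce]
        exact mul_mem (mul_mem hnS hxS) (inv_mem hnS)
      | succ i ih =>
        have := mul_mem (mul_mem hhS ih) (inv_mem hhS)
        rwa [h4', ← mul_assoc, ← pow_succ'] at this
    intro g hgG hg
    obtain ⟨t, ht, rfl⟩ := C.posO_single (r := e6p4) (by simp) coords.2.1 (C.sys.le_fix hgG) hg
    show wU chevE6 [(e6p4, t)] ∈ S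
    rw [show wU chevE6 [(e6p4, t)] = xU chevE6 e6p4 t by simp [wU]]
    rcases eq_or_ne t 0 with rfl | ht0
    · rw [hF.xU_zero (by decide)]; exact one_mem _
    obtain ⟨i, hi⟩ : ∃ i : ℕ, ν ^ i = Units.mk0 (t / c) (div_ne_zero ht0 hc0) := by
      set u := Units.mk0 (t / c) (div_ne_zero ht0 hc0) with hu
      obtain ⟨j, hj⟩ := (mem_powers_iff_mem_zpowers (x := lam)).2 (hlam u)
      change lam ^ j = u at hj
      have hfix : u ^ (q - 1) = 1 := by
        refine mul_right_cancel (b := u) ?_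
        rw [one_mul, ← pow_succ, show q - 1 + 1 = q by omega]
        exact Units.ext (by rw [Units.val_pow_eq_pow_val, hu, Units.val_mk0, div_pow, ht, hc])
      rw [← hj, ← pow_mul] at hfix
      have hdvd := orderOf_dvd_of_pow_eq_one hfix
      rw [hord, show q ^ 2 - 1 = (q + 1) * (q - 1) by rw [← Nat.sq_sub_sq, one_pow]] at hdvd
      obtain ⟨i, rfl⟩ := Nat.dvd_of_mul_dvd_mul_right (by omega) hdvd
      exact ⟨i, by rw [← hj, hν, C.fu_eq_pow, ← pow_succ', ← pow_mul]⟩
    have := hk i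
    rwa [← Units.val_pow_eq_pow_val, hi, Units.val_mk0, div_mul_cancel₀ _ hc0] at this
  have hX0 := back (1, [e6p2], [e6p4]) (by simp [moves]) hX1
  have hX2 := back (1, [e6p3, e6p5], [e6p1, e6p6]) (by simp [moves]) hX3
  rw [C.gen_eq, Subgroup.closure_le]
  intro g hg
  obtain ⟨hgG, o, hor⟩ := C.gen_orbit hg
  revert hor
  revert o
  refine fin_cases_spec ?_ ?_ ?_ ?_ <;> rintro (hor | hor)
  · exact hX0 g hgG
      (rootClosure_mono (fun r hr => (posO_iff_list DataE6.chk_arrays pos_lists.1 r hr).1) hor)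
  · exact back (6, [e6m2], [e6p2]) (by simp [moves]) hX0 g hgG
      (rootClosure_mono (fun r hr => (negO_iff_list DataE6.chk_arrays neg_lists.1 r hr).1) hor)
  · exact hX1 g hgG
      (rootClosure_mono (fun r hr => (posO_iff_list DataE6.chk_arrays pos_lists.2.1 r hr).1) hor)
  · exact back (5, [e6m4], [e6p2]) (by simp [moves]) hX0 g hgG
      (rootClosure_mono (fun r hr => (negO_iff_list DataE6.chk_arrays neg_lists.2.1 r hr).1) hor)
  · exact hX2 g hgG
      (rootClosure_mono (fun r hr => (posO_iff_list DataE6.chk_arrays pos_lists.2.2.1 r hr).1) hor)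
  · exact back (7, [e6m3, e6m5], [e6p1, e6p6]) (by simp [moves]) hX3 g hgG
      (rootClosure_mono (fun r hr => (negO_iff_list DataE6.chk_arrays neg_lists.2.2.1 r hr).1) hor)
  · exact hX3 g hgG
      (rootClosure_mono (fun r hr => (posO_iff_list DataE6.chk_arrays pos_lists.2.2.2 r hr).1) hor)
  · exact back (6, [e6m1, e6m6], [e6p1, e6p6]) (by simp [moves]) hX3 g hgG
      (rootClosure_mono (fun r hr => (negO_iff_list DataE6.chk_arrays neg_lists.2.2.2 r hr).1) hor)

end CfsgLib.Chev.TwE6.TwoGen
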