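/-
Two generators of the twisted groups of type ²F₄.
-/
import Mathlib
import Cfsg.Agent.Lib.Chev.Twist.F4Main
import Cfsg.Agent.Lib.Classical.UnitTwoGen.Gen
import Cfsg.Agent.Lib.Chev.TwoGen.Base

set_option autoImplicit false
set_option maxRecDepth 20000

namespace CfsgLib.Chev.TwF4.TwoGen

open Cfsg.Lie

universe v

theorem pair_word : (O ⟨0, by decide⟩).word = [⟨0, by decide⟩, ⟨3, by decide⟩] := by
  decide +kernel

/-- The word of the Coxeter element, repeated four times. -/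
def cox : List (Fin chevF4.rank) :=
  (List.replicate 4 ((O ⟨1, by decide⟩).word ++ (O ⟨0, by decide⟩).word)).flatten

theorem cox_neg :
    (∀ r ∈ [f4m1, f4m4], (cox.map Fin.val).foldr (fun i x => chevF4.reflectRoot i x) r ∈ [f4p1, f4p4]) ∧
    ∀ r ∈ [f4ma, f4mb, f4mab, f4maab],
      (cox.map Fin.val).foldr (fun i x => chevF4.reflectRoot i x) r ∈ [f4a, f4b, f4ab, f4aab] := by
  decide +kernel

variable {K : Type v} [Field K] [Fintype K] {m : ℕ} (C : Ctx K m)

/-- A pair element. -/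
noncomputable def pr (t : K) : GL chevF4.Idx K := xU chevF4 f4p1 (C.f t) * xU chevF4 f4p4 t

theorem pr_mem (t : K) : pr C t ∈ twistedF4 K (2 ^ m) := by
  have h := C.mem_gen (Or.inl ⟨t, Or.inl rfl⟩)
  simpa [f4PairWord, wU, pr, C.hf] using h

theorem pr_add (s t : K) : pr C s * pr C t = pr C (s + t) := by
  have hF := DataF4.facts
  obtain ⟨A, -, -, -⟩ := C.commute_pair
  rw [pr, pr, (A s (C.f t)).mul_mul_mul_comm, hF.xU_add (by decide), hF.xU_add (by decide), ← map_add]
  rfl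

theorem pr_zero : pr C 0 = 1 := by
  have h : pr C 0 * pr C 0 = pr C 0 := by rw [pr_add, add_zero]
  exact mul_eq_left.1 h

theorem pr_sq (t : K) : pr C t * pr C t = 1 := by rw [pr_add, C.add_self, pr_zero]

/-- The weight at the pair. -/
def chiP (a b : Kˣ) : Kˣ := a * a / b

/-- The weight at the class. -/
def chiQ (a b : Kˣ) : Kˣ := b * b / (C.fu b * C.fu b * a)

theorem conj_pr (a b : Kˣ) (t : K) :
    C.par (a, b) * pr C t * (C.par (a, b))⁻¹ = pr C ((chiP a b : K) * t) := by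
  have hF := DataF4.facts
  obtain ⟨s0, -, -, s3, -⟩ := torus_tables
  show hT chevF4 (four (C.fu a) (C.fu b) b a) * pr C t * _ = _
  set h := hT chevF4 (four (C.fu a) (C.fu b) b a) with hdef
  rw [show C.par (a, b) = h from rfl, pr,
    show ∀ x y : GL chevF4.Idx K, h * (x * y) * h⁻¹ = h * x * h⁻¹ * (h * y * h⁻¹) from
      fun x y => by group,
    hdef, hF.hT_conj_xU _ (by decide), hF.hT_conj_xU _ (by decide), ← s0, ← s3,
    (char_four _ _ _ _).1, (char_four _ _ _ _).2.2.2, pr, map_mul, s0, s3]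
  congr 3
  show _ = ((C.fu (chiP a b) : Kˣ) : K)
  rw [chiP, map_div, map_mul]

theorem conj_cl (a b : Kˣ) (t u : K) :
    C.par (a, b) * C.cl t u * (C.par (a, b))⁻¹ =
      C.cl ((chiQ C a b : K) * t) (((C.fu (chiQ C a b) * chiQ C a b : Kˣ) : K) * u) := by
  have hF := DataF4.facts
  obtain ⟨-, s1, s2, -, -, -, -, -, h4, -⟩ := torus_tables
  set X := chiQ C a b with hX
  set c := four (C.fu a) (C.fu b) b a with hc
  have cb : ∏ j ∈ Finset.range chevF4.rank, c j ^ chevF4.cartan j f4b = X := by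
    rw [hc, ← s2, (char_four _ _ _ _).2.2.1, hX, chiQ]
  have ca : ∏ j ∈ Finset.range chevF4.rank, c j ^ chevF4.cartan j f4a = C.fu X := by
    rw [hc, ← s1, (char_four _ _ _ _).2.1, hX, chiQ, map_div, map_mul, map_mul, map_mul, C.fu_theta,
      mul_comm b]
  have cab : ∏ j ∈ Finset.range chevF4.rank, c j ^ chevF4.cartan j f4ab = C.fu X * X := by
    rw [← ca, ← cb, ← Finset.prod_mul_distrib]
    refine Finset.prod_congr rfl fun j hj => ?_
    rw [(cart_high j (by rw [Finset.mem_range, h4] at hj; exact hj)).1, zpow_add]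
  have caab : ∏ j ∈ Finset.range chevF4.rank, c j ^ chevF4.cartan j f4aab =
      C.fu X * C.fu X * X := by
    rw [← ca, ← cb, ← Finset.prod_mul_distrib, ← Finset.prod_mul_distrib]
    refine Finset.prod_congr rfl fun j hj => ?_
    rw [(cart_high j (by rw [Finset.mem_range, h4] at hj; exact hj)).2, zpow_add, two_mul, zpow_add]
  show hT chevF4 c * C.cl t u * (hT chevF4 c)⁻¹ = _
  simp only [Ctx.cl]
  rw [show ∀ h a b c d : GL chevF4.Idx K, h * (a * b * (c * d)) * h⁻¹ =
      h * a * h⁻¹ * (h * b * h⁻¹) * (h * c * h⁻¹ * (h * d * h⁻¹)) from fun h a b c d => by group,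
    hF.hT_conj_xU _ (by decide), hF.hT_conj_xU _ (by decide), hF.hT_conj_xU _ (by decide),
    hF.hT_conj_xU _ (by decide), ca, cb, cab, caab]
  congr 2
  · rw [map_mul]; rfl
  · rw [map_mul, Units.val_mul, show ((C.fu X : Kˣ) : K) = C.f (X : K) from rfl]
    ring
  · congr 1
    simp only [Units.val_mul, show ((C.fu X : Kˣ) : K) = C.f (X : K) from rfl, map_mul, mul_pow, C.theta]
    ring

theorem cl_sq (t u : K) : C.cl t u * C.cl t u = C.cl 0 (C.f t * t) := by
  have hF := DataF4.facts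
  obtain ⟨k5, ka, kb, la, lb⟩ := C.class_commute
  set A := xU chevF4 f4a (C.f t) with hA
  set B := xU chevF4 f4b t with hB
  set P := xU chevF4 f4ab (C.f t * t + u) * xU chevF4 f4aab (C.f u ^ 2) with hP
  have cP : Commute P (A * B) :=
    ((ka _ _).mul_right (kb _ _)).mul_left ((la _ _).mul_right (lb _ _))
  have hAA : A * A = 1 := by
    rw [hA, hF.xU_add (by decide), C.add_self, hF.xU_zero (by decide)]
  have hBB : B * B = 1 := by
    rw [hB, hF.xU_add (by decide), C.add_self, hF.xU_zero (by decide)]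
  have hPP : P * P = 1 := by
    rw [hP, (k5 _ _).symm.mul_mul_mul_comm, hF.xU_add (by decide), hF.xU_add (by decide), C.add_self,
      C.add_self, hF.xU_zero (by decide), hF.xU_zero (by decide), mul_one]
  set Z := xU chevF4 f4ab (C.f t * t) * xU chevF4 f4aab (C.f t ^ 2 * t) with hZ
  have cZ : Commute Z B := (kb _ _).mul_left (lb _ _)
  have hsw : B * A = A * B * Z := C.swap_ab (c := (f4a, f4b, f4ab, f4aab)) (by simp [classes]) (C.f t) t
  calc C.cl t u * C.cl t u = A * B * P * (A * B * P) := rfl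
    _ = A * B * (A * B) * (P * P) := by rw [cP.mul_mul_mul_comm]
    _ = A * (B * A) * B * (P * P) := by simp only [mul_assoc]
    _ = A * A * B * (Z * B) * (P * P) := by rw [hsw]; simp only [mul_assoc]
    _ = A * A * (B * B) * Z * (P * P) := by rw [cZ.eq]; simp only [mul_assoc]
    _ = Z := by rw [hAA, hBB, hPP, one_mul, one_mul, mul_one]
    _ = _ := by
      simp only [Ctx.cl, map_zero, hF.xU_zero (show f4a < chevF4.nroots by decide),
        hF.xU_zero (show f4b < chevF4.nroots by decide), mul_zero, zero_add, one_mul, hZ]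
      rw [map_mul, mul_pow, C.theta, mul_comm t]

theorem cl_zero : C.cl 0 0 = 1 := by
  have hF := DataF4.facts
  simp [Ctx.cl, hF.xU_zero (show f4a < chevF4.nroots by decide),
    hF.xU_zero (show f4b < chevF4.nroots by decide), hF.xU_zero (show f4ab < chevF4.nroots by decide),
    hF.xU_zero (show f4aab < chevF4.nroots by decide)]

theorem cl_inv (t u : K) : (C.cl t u)⁻¹ = C.cl t (u + C.f t * t) := by
  refine inv_eq_of_mul_eq_one_right ?_
  rw [← C.cl_mul_center, ← mul_assoc, cl_sq, C.cl_mul_center, C.add_self, cl_zero]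

theorem cl_mul (t u s w : K) : ∃ v, C.cl t u * C.cl s w = C.cl (t + s) v := by
  obtain ⟨v, hv⟩ := C.cl_mul_zero t u s
  refine ⟨v + w, ?_⟩
  rw [← zero_add w, ← C.cl_mul_center s 0 w, ← mul_assoc, hv, C.cl_mul_center, zero_add]

theorem nO_conj_hT (o : Fin spec.length) (c : ℕ → Kˣ) :
    C.sys.nO o * hT chevF4 c * (C.sys.nO o)⁻¹ =
      nW chevF4 K (O o).word * hT chevF4 c * (nW chevF4 K (O o).word)⁻¹ := by
  have hF := DataF4.facts
  have hw : PermAct (nW chevF4 K (O o).word) (O o).wO := hF.permAct_nW _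
  have hd := hF.same_perm (hF.nW_mem (O o).word) (C.sys.nO_monomial o) hw (C.sys.nO_perm o)
  obtain ⟨k, hk⟩ := hF.mem_diagonal_iff.1 hd
  rw [show C.sys.nO o = nW chevF4 K (O o).word * hT chevF4 k by rw [← hk, mul_inv_cancel_left],
    show ∀ n k h : GL chevF4.Idx K, n * k * h * (n * k)⁻¹ = n * (k * h * k⁻¹) * n⁻¹ from
      fun n k h => by group, ← hF.hT_mul, ← hF.hT_inv, ← hF.hT_mul]
  simp only [mul_inv_cancel_comm]

theorem nO_pair_par (a : Kˣ) :
    C.sys.nO ⟨0, by decide⟩ * C.par (a, a * a) * (C.sys.nO ⟨0, by decide⟩)⁻¹ = C.par (a, a * a) := by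
  show C.sys.nO _ * hT chevF4 _ * _ = hT chevF4 _
  rw [nO_conj_hT, pair_word, nW_cons, nW_cons, nW_nil, mul_one,
    show ∀ w x h : GL chevF4.Idx K, w * x * h * (w * x)⁻¹ = w * (x * h * x⁻¹) * w⁻¹ from
      fun w x h => by group, C.conj_step, C.conj_step]
  simp only [Nat.reduceEqDiff, if_false, if_true, map_mul]
  congr 1
  simp

theorem nO_class_par (a b : Kˣ) :
    C.sys.nO ⟨1, by decide⟩ * C.par (a, b) * (C.sys.nO ⟨1, by decide⟩)⁻¹ =
      C.par (a, C.fu a * C.fu a * (a * a) / b) := by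
  show C.sys.nO _ * hT chevF4 _ * _ = hT chevF4 _
  rw [nO_conj_hT, class_word, nW_cons, nW_cons, nW_cons, nW_cons, nW_nil, mul_one,
    show ∀ w x y z h : GL chevF4.Idx K, w * (x * (y * z)) * h * (w * (x * (y * z)))⁻¹ =
      w * (x * (y * (z * h * z⁻¹) * y⁻¹) * x⁻¹) * w⁻¹ from fun w x y z h => by group,
    C.conj_step, C.conj_step, C.conj_step, C.conj_step]
  simp only [Nat.reduceEqDiff, if_false, if_true, map_mul, map_div, C.fu_theta]
  congr 2
  all_goals simp [div_eq_mul_inv, mul_comm, mul_left_comm, mul_assoc]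

include C in
set_option maxHeartbeats 2000000 in
theorem two_generated (hm : 1 ≤ m) :
    ∃ a b : ↥(twistedF4 K (2 ^ m)), Subgroup.closure ({a, b} : Set ↥(twistedF4 K (2 ^ m))) = ⊤ := by
  classical
  have hF := DataF4.facts
  obtain ⟨lam, hlam⟩ := IsCyclic.exists_generator (α := Kˣ)
  have hord : orderOf lam = Fintype.card K - 1 := by
    rw [orderOf_eq_card_of_forall_mem_zpowers hlam, Nat.card_eq_fintype_card, Fintype.card_units]
  have h8 : 8 ≤ Fintype.card K := by
    rw [C.card]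
    have h : 2 ^ 3 ≤ 2 ^ (2 * m + 1) := Nat.pow_le_pow_right (by norm_num) (by omega)
    omega
  have hsmall : ∀ r, 2 ≤ r → r * r ≤ Fintype.card K → lam ^ (r - 1) ≠ 1 := by
    intro r hr hrr h
    have h1 := orderOf_dvd_of_pow_eq_one h
    rw [hord] at h1
    have h2 := Nat.le_of_dvd (by omega) h1
    have := Nat.mul_le_mul_right r hr
    omega
  have hlam1 : lam ≠ 1 := fun h => hsmall 2 le_rfl (by omega) (by rw [h, one_pow])
  obtain ⟨a, ha⟩ : ∃ a : Kˣ, chiQ C a (a * a) = lam := by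
    refine Finite.surjective_of_injective (f := fun a : Kˣ => chiQ C a (a * a)) (fun x y e => ?_) lam
    have hz : chiQ C (x / y) (x / y * (x / y)) = 1 := by
      have : chiQ C (x / y) (x / y * (x / y)) = chiQ C x (x * x) / chiQ C y (y * y) := by
        simp only [chiQ, map_mul, map_div]
        simp only [div_eq_mul_inv, mul_inv_rev, inv_inv, mul_assoc, mul_comm, mul_left_comm]
      simp only at e
      rw [this, e, div_self']
    set z := x / y with hz'
    rw [chiQ, map_mul, div_eq_one] at hz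
    have e1 : z ^ 3 = C.fu z ^ 4 := mul_right_cancel (b := z) (by
      refine Eq.trans ?_ (hz.trans ?_) <;> simp [pow_succ, mul_assoc])
    have e2 : C.fu z ^ 3 = z * z := by
      rw [← map_pow, e1, map_pow, show (4 : ℕ) = 2 + 2 from rfl, pow_add, sq, C.fu_theta]
    have e3 : (z ^ 3) ^ 3 = z ^ 8 := by
      rw [e1, ← pow_mul, show 4 * 3 = 3 * 4 from rfl, pow_mul, e2, ← sq, ← pow_mul]
    have e4 : z = 1 := mul_left_cancel (a := z ^ 8) (by
      rw [mul_one, ← pow_succ]; simpa [← pow_mul] using e3)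
    exact div_eq_one.1 e4
  set h := C.par (a, a * a) with hh
  set o0 : Fin spec.length := ⟨0, by decide⟩ with ho0
  set o1 : Fin spec.length := ⟨1, by decide⟩ with ho1
  set n := C.sys.nO o1 * C.sys.nO o0 with hn
  have hnG : n ∈ twistedF4 K (2 ^ m) := mul_mem (C.sys.nO_mem o1) (C.sys.nO_mem o0)
  have hhG : h ∈ twistedF4 K (2 ^ m) := (C.range_le ⟨_, rfl⟩).2
  refine CfsgLib.Chev.TwoGen.two_gen_of_le (a := h * pr C 1) (b := C.cl 1 0 * n)
    (mul_mem hhG (pr_mem C 1)) (mul_mem (C.cl_mem 1 0).1 hnG) ?_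
  set S := Subgroup.closure ({h * pr C 1, C.cl 1 0 * n} : Set (GL chevF4.Idx K))
  have haS : h * pr C 1 ∈ S := Subgroup.subset_closure (Or.inl rfl)
  have hbS : C.cl 1 0 * n ∈ S := Subgroup.subset_closure (Or.inr rfl)
  have hP1 : chiP a (a * a) = 1 := div_self' _
  have hodd : Odd (Fintype.card Kˣ) := by
    rw [Fintype.card_units, C.card]
    refine Nat.Even.sub_odd (Nat.one_le_pow _ _ (by norm_num)) ?_ odd_one
    exact even_two.pow_of_ne_zero (by omega)
  obtain ⟨hhS, hpS⟩ : h ∈ S ∧ pr C 1 ∈ S := by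
    refine CfsgLib.Chev.TwoGen.split_of_commute ?_ (pr_sq C 1) hodd ?_ haS
    · have e := conj_pr C a (a * a) 1
      rw [hP1, Units.val_one, one_mul] at e
      exact mul_inv_eq_iff_eq_mul.1 e
    · rw [hh, ← map_pow, show ((a, a * a) : Kˣ × Kˣ) ^ Fintype.card Kˣ = 1 from
        Prod.ext pow_card_eq_one pow_card_eq_one, map_one]
  -- the conjugate of the torus element
  set h' := C.par (a, C.fu a * C.fu a) with hh'
  have hconj : n * h * n⁻¹ = h' := by
    rw [hn, show C.sys.nO o1 * C.sys.nO o0 * h * (C.sys.nO o1 * C.sys.nO o0)⁻¹ =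
      C.sys.nO o1 * (C.sys.nO o0 * h * (C.sys.nO o0)⁻¹) * (C.sys.nO o1)⁻¹ by group, hh,
      nO_pair_par, nO_class_par, hh']
    congr 2
    rw [mul_div_assoc, div_self', mul_one]
  set X' := chiQ C a (C.fu a * C.fu a) with hX'
  have hX'lam : X' * lam = 1 := by
    rw [hX', ← ha]
    simp only [chiQ, map_mul, C.fu_theta]
    rw [div_mul_div_comm, div_eq_one]
    ac_rfl
  have hcK : C.cl 1 0 * h' * (C.cl 1 0)⁻¹ ∈ S := by
    rw [← hconj, show C.cl 1 0 * (n * h * n⁻¹) * (C.cl 1 0)⁻¹ =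
      (C.cl 1 0 * n) * h * (C.cl 1 0 * n)⁻¹ by group]
    exact mul_mem (mul_mem hbS hhS) (inv_mem hbS)
  -- a class element
  obtain ⟨t0, u0, ht0, hd0⟩ : ∃ t u, t ≠ 0 ∧ C.cl t u ∈ S := by
    have hd := mul_mem (mul_mem (mul_mem hhS hcK) (inv_mem hhS)) (inv_mem hcK)
    rw [CfsgLib.Chev.TwoGen.comm_conj ((Commute.all _ _).map C.par), conj_cl, ← hX', cl_inv] at hd
    obtain ⟨v, hv⟩ := cl_mul C 1 0 ((X' : K) * 1) ((((C.fu X' * X' : Kˣ) : K)) * 0 +
      C.f ((X' : K) * 1) * ((X' : K) * 1))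
    rw [hv, conj_cl, ha, cl_inv] at hd
    obtain ⟨v', hv'⟩ := cl_mul C ((lam : K) * (1 + (X' : K) * 1))
      (((C.fu lam * lam : Kˣ) : K) * v) (1 + (X' : K) * 1)
      (v + C.f (1 + (X' : K) * 1) * (1 + (X' : K) * 1))
    rw [hv'] at hd
    refine ⟨_, v', ?_, hd⟩
    rw [mul_one, show (lam : K) * (1 + X') + (1 + X') = ((lam : K) + 1) * (1 + X') by ring]
    refine mul_ne_zero (fun e => hlam1 (Units.ext ?_)) fun e => hlam1 ?_
    · rw [Units.val_one, ← C.neg_eq 1]; exact eq_neg_of_add_eq_zero_left e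
    · have e1 : X' = 1 := Units.ext (by
        rw [Units.val_one, ← C.neg_eq 1]; exact eq_neg_of_add_eq_zero_right e)
      rwa [e1, one_mul] at hX'lam
  have hclconj : ∀ t u, C.cl t u ∈ S →
      C.cl ((lam : K) * t) (((C.fu lam * lam : Kˣ) : K) * u) ∈ S := fun t u h1 => by
    have h2 := mul_mem (mul_mem hhS h1) (inv_mem hhS)
    rwa [hh, conj_cl, ha] at h2
  have hall : ∀ t, ∃ u, C.cl t u ∈ S := by
    refine CfsgLib.Classical.UnitTwoGen.all_of_powers ht0 lam.ne_zero
      (fun r hr hrr e => hsmall r hr hrr (Units.ext (by simpa using e)))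
      (fun t => ∃ u, C.cl t u ∈ S) ?_ ?_ ?_
    · rintro s t ⟨u, h1⟩ ⟨w, h2⟩
      obtain ⟨v, hv⟩ := cl_mul C s u t w
      exact ⟨v, hv ▸ mul_mem h1 h2⟩
    · rintro t ⟨u, h1⟩
      exact ⟨u, by rwa [C.neg_eq]⟩
    · intro k
      induction k with
      | zero => exact ⟨u0, by rwa [pow_zero, one_mul]⟩
      | succ k ih =>
        obtain ⟨u, h1⟩ := ih
        have h2 := hclconj _ _ h1
        rw [← mul_assoc, ← pow_succ'] at h2
        exact ⟨_, h2⟩
  have hZ : ∀ v, C.cl 0 v ∈ S := by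
    have hadd : ∀ s t, C.cl 0 s ∈ S → C.cl 0 t ∈ S → C.cl 0 (s + t) ∈ S := fun s t h1 h2 => by
      rw [← C.cl_mul_center]; exact mul_mem h1 h2
    obtain ⟨u, h1⟩ := hall 1
    have hc : C.cl 0 1 ∈ S := by
      have := mul_mem h1 h1
      rwa [cl_sq, map_one, mul_one] at this
    refine CfsgLib.Classical.UnitTwoGen.all_of_powers one_ne_zero (C.fu lam * lam).ne_zero
      (fun r hr hrr e => hsmall r hr hrr (C.eq_one_of_inv (eq_inv_of_mul_eq_one_left ?_)))
      (fun v => C.cl 0 v ∈ S) hadd ?_ ?_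
    · rw [map_pow, ← mul_pow]
      exact Units.ext (by rw [Units.val_pow_eq_pow_val, e, Units.val_one])
    · intro t h2; rwa [C.neg_eq]
    · intro k
      induction k with
      | zero => rwa [pow_zero, one_mul]
      | succ k ih =>
        have := hclconj _ _ ih
        rwa [mul_zero, ← mul_assoc, ← pow_succ'] at this
  have hQ : ∀ t u, C.cl t u ∈ S := fun t u => by
    obtain ⟨u', h1⟩ := hall t
    have := mul_mem h1 (hZ (u' + u))
    rwa [C.cl_mul_center, ← add_assoc, C.add_self, zero_add] at this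
  have hnS : n ∈ S := by
    have := mul_mem (inv_mem (hQ 1 0)) hbS
    rwa [inv_mul_cancel_left] at this
  have hh'S : h' ∈ S := hconj ▸ mul_mem (mul_mem hnS hhS) (inv_mem hnS)
  have hP : ∀ t, pr C t ∈ S := by
    set Y := chiP a (C.fu a * C.fu a) with hY
    have hYone : ∀ r : ℕ, Y ^ r = 1 → lam ^ r = 1 := fun r e => by
      rw [hY, chiP, div_pow, div_eq_one, mul_pow, mul_pow, ← map_pow] at e
      have e1 : a ^ r = 1 := C.eq_one_of_fix (div_eq_one.1 (C.sq_eq_one (by
        rw [div_mul_div_comm, ← e, div_self']))).symm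
      have e2 : C.fu a ^ r = 1 := by rw [← map_pow, e1, map_one]
      rw [← ha, chiQ, div_pow]
      simp only [map_mul, mul_pow, e1, e2, one_mul, div_one]
    refine CfsgLib.Classical.UnitTwoGen.all_of_powers one_ne_zero Y.ne_zero
      (fun r hr hrr e => hsmall r hr hrr (hYone _ (Units.ext (by simpa using e))))
      (fun t => pr C t ∈ S) (fun s t h1 h2 => pr_add C s t ▸ mul_mem h1 h2)
      (fun t h1 => by rwa [C.neg_eq]) fun k => ?_
    induction k with
    | zero => rwa [pow_zero, one_mul]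
    | succ k ih =>
      have := mul_mem (mul_mem hh'S ih) (inv_mem hh'S)
      rwa [hh', conj_pr, ← hY, ← mul_assoc, ← pow_succ'] at this
  have hpos : ∀ o, ∀ g, g ∈ twistedF4 K (2 ^ m) →
      g ∈ rootClosure chevF4 K ((O o).posO DataF4.co) → g ∈ S := by
    refine fin_cases_spec (fun g hg h1 => ?_) (fun g hg h1 => ?_)
    · obtain ⟨t, rfl⟩ := C.fix_pair (C.sys.le_fix hg)
        (rootClosure_mono (fun r hr => (posO_iff_list DataF4.chk_arrays pos_lists.1 r hr).1) h1)
      simpa [wU, pr, C.hf] using hP t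
    · obtain ⟨t, u, rfl⟩ := C.fix_class (C.sys.le_fix hg)
        (rootClosure_mono (fun r hr => (posO_iff_list DataF4.chk_arrays pos_lists.2 r hr).1) h1)
      rw [C.cl_eq]; exact hQ t u
  -- the fourth power of the Coxeter element reverses the orbits
  have hn4 : PermAct (n ^ 4) (sW chevF4 cox) := by
    have h1 : PermAct n ((O o1).wO * (O o0).wO) := hF.permAct_mul (C.sys.nO_perm o1) (C.sys.nO_perm o0)
    have h2 := hF.permAct_mul (hF.permAct_mul (hF.permAct_mul h1 h1) h1) h1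
    rw [show n ^ 4 = n * n * n * n by simp [pow_succ]]
    convert h2 using 1
    simp [cox, Orb.wO, ho0, ho1, sW_append, mul_assoc]
  rw [C.gen_eq, Subgroup.closure_le]
  intro g hg
  obtain ⟨hgG, o, hor | hor⟩ := C.gen_orbit hg
  · exact hpos o g hgG hor
  have h4G : n ^ 4 * g * (n ^ 4)⁻¹ ∈ twistedF4 K (2 ^ m) :=
    mul_mem (mul_mem (pow_mem hnG 4) hgG) (inv_mem (pow_mem hnG 4))
  have h4 : n ^ 4 * g * (n ^ 4)⁻¹ ∈ rootClosure chevF4 K ((O o).posO DataF4.co) := by
    clear h4G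
    revert hor
    revert o
    refine fin_cases_spec (fun hor => ?_) (fun hor => ?_)
    · refine hF.conj_rootClosure hn4 (P := (· ∈ [f4m1, f4m4])) (fun s hs => ?_)
        (rootClosure_mono (fun r hr => (negO_iff_list DataF4.chk_arrays neg_lists.1 r hr).1) hor)
      refine (posO_iff_list DataF4.chk_arrays pos_lists.1 _ (sW chevF4 cox s).isLt).2 ?_
      rw [hF.sW_val_foldr]; exact cox_neg.1 _ hs
    · refine hF.conj_rootClosure hn4 (P := (· ∈ [f4ma, f4mb, f4mab, f4maab])) (fun s hs => ?_)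
        (rootClosure_mono (fun r hr => (negO_iff_list DataF4.chk_arrays neg_lists.2 r hr).1) hor)
      refine (posO_iff_list DataF4.chk_arrays pos_lists.2 _ (sW chevF4 cox s).isLt).2 ?_
      rw [hF.sW_val_foldr]; exact cox_neg.2 _ hs
  have := mul_mem (mul_mem (inv_mem (pow_mem hnS 4)) (hpos o _ h4G h4)) (pow_mem hnS 4)
  rwa [show (n ^ 4)⁻¹ * (n ^ 4 * g * (n ^ 4)⁻¹) * n ^ 4 = g by group] at this

end CfsgLib.Chev.TwF4.TwoGen
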